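import Mathlib
import Groth.Agent.FibBound.Basic

/-!
# Images of nowhere dense sets under quasi-finite morphisms
-/

set_option linter.style.haveILetI false

universe u

open TensorProduct

namespace Groth.Agent.NwdImage

lemma isNowhereDense_image_of_isInducing {Y X : Type*} [TopologicalSpace Y] [TopologicalSpace X]
    {e : Y → X} (he : Topology.IsInducing e) {T : Set Y} (hT : IsNowhereDense T) :
    IsNowhereDense (e '' T) := by
  rw [IsNowhereDense, Set.eq_empty_iff_forall_notMem]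
  intro x hx
  obtain ⟨O, hO, hOopen, hxO⟩ := mem_interior.mp hx
  obtain ⟨_, hyO, ⟨y, hy, rfl⟩⟩ := mem_closure_iff.mp (hO hxO) O hOopen hxO
  have hy' : y ∈ interior (closure T) := mem_interior.mpr
    ⟨e ⁻¹' O, fun z hz => by rw [he.closure_eq_preimage_closure_image]; exact hO hz,
      hOopen.preimage he.continuous, hyO⟩
  rw [IsNowhereDense] at hT
  simp [hT] at hy'

lemma isNowhereDense_union {X : Type*} [TopologicalSpace X] {s t : Set X}
    (hs : IsNowhereDense s) (ht : IsNowhereDense t) : IsNowhereDense (s ∪ t) := by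
  rw [IsNowhereDense, closure_union, interior_union_isClosed_of_interior_empty isClosed_closure ht]
  exact hs

lemma isNowhereDense_biUnion {X ι : Type*} [TopologicalSpace X] (s : Finset ι) {f : ι → Set X}
    (h : ∀ i ∈ s, IsNowhereDense (f i)) : IsNowhereDense (⋃ i ∈ s, f i) := by
  classical
  induction s using Finset.induction with
  | empty => simp
  | insert a s ha ih =>
    rw [Finset.set_biUnion_insert]
    exact isNowhereDense_union (h a (Finset.mem_insert_self a s))
      (ih fun i hi => h i (Finset.mem_insert_of_mem hi))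

lemma exists_finite_free_surj (A S : Type u) [CommRing A] [CommRing S] [Algebra A S] [Module.Finite A S] :
    ∃ (P : Type u) (_ : CommRing P) (_ : Algebra A P) (_ : Module.Finite A P) (_ : Module.Free A P)
      (φ : P →ₐ[A] S), Function.Surjective φ := by
  classical
  have key : ∀ t : Finset S, ∃ (P : Type u) (_ : CommRing P) (_ : Algebra A P) (_ : Module.Finite A P)
      (_ : Module.Free A P) (φ : P →ₐ[A] S), (t : Set S) ⊆ Set.range φ := by
    intro t
    induction t using Finset.induction with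
    | empty => exact ⟨A, inferInstance, inferInstance, inferInstance, inferInstance, Algebra.ofId A S, by simp⟩
    | insert s t hs ih =>
      obtain ⟨P, _, _, _, _, φ, hφ⟩ := ih
      obtain ⟨g, hg, hgs⟩ := Algebra.IsIntegral.isIntegral (R := A) s
      let Q := AdjoinRoot g
      haveI : Module.Free A Q := hg.free_adjoinRoot
      haveI : Module.Finite A Q := hg.finite_adjoinRoot
      let ψ : Q →ₐ[A] S := AdjoinRoot.liftAlgHom g (Algebra.ofId A S) s hgs
      refine ⟨P ⊗[A] Q, inferInstance, inferInstance, inferInstance, inferInstance,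
        Algebra.TensorProduct.productMap φ ψ, ?_⟩
      intro x hx
      rcases Finset.mem_insert.mp hx with rfl | hx
      · exact ⟨1 ⊗ₜ AdjoinRoot.root g, by simp only [Algebra.TensorProduct.productMap_apply_tmul, map_one, one_mul, ψ]; exact AdjoinRoot.lift_root hgs⟩
      · obtain ⟨y, hy⟩ := hφ hx
        exact ⟨y ⊗ₜ 1, by simp [hy]⟩
  obtain ⟨t, ht⟩ := (inferInstance : Module.Finite A S).fg_top
  obtain ⟨P, _, _, _, _, φ, hφ⟩ := key t
  refine ⟨P, _, _, ‹_›, ‹_›, φ, ?_⟩
  have : LinearMap.range φ.toLinearMap = ⊤ := by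
    rw [← top_le_iff, ← ht, Submodule.span_le]
    exact hφ
  exact LinearMap.range_eq_top.mp this

variable {A P : Type u} [CommRing A] [CommRing P] [Algebra A P]

lemma ncard_fibre_le [Nontrivial A] [Module.Finite A P] [Module.Free A P] (η : PrimeSpectrum A) :
    (PrimeSpectrum.comap (algebraMap A P) ⁻¹' {η}).Finite ∧
      (PrimeSpectrum.comap (algebraMap A P) ⁻¹' {η}).ncard ≤ Module.finrank A P := by
  let K := η.asIdeal.ResidueField
  have h := Groth.Agent.FibBound.isArtinian_card_le K (η.asIdeal.Fiber P)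
  have h2 : Module.finrank K (η.asIdeal.Fiber P) = Module.finrank A P := Module.finrank_baseChange
  rw [h2, ← ENat.card_congr (PrimeSpectrum.preimageEquivFiber A P η), Set.coe_eq_subtype] at h
  have hfin : (PrimeSpectrum.comap (algebraMap A P) ⁻¹' {η}).Finite := by
    refine Set.finite_coe_iff.mp ?_
    exact ENat.card_lt_top.mp (lt_of_le_of_lt h (ENat.coe_lt_top _))
  refine ⟨hfin, ?_⟩
  rw [← Nat.card_coe_set_eq, ← ENat.coe_le_coe]
  haveI := hfin.to_subtype
  rw [← ENat.card_eq_coe_natCard]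
  exact h

/-- An element of all primes over a minimal prime avoids all primes over a neighbourhood. -/
lemma exists_nhd_avoid {η : PrimeSpectrum A} (hη : η.asIdeal ∈ minimalPrimes A) {c : P}
    (hc : ∀ q : PrimeSpectrum P, PrimeSpectrum.comap (algebraMap A P) q = η → c ∈ q.asIdeal) :
    ∃ s ∉ η.asIdeal, ∀ q : PrimeSpectrum P, algebraMap A P s ∉ q.asIdeal → c ∈ q.asIdeal := by
  by_cases h0 : (0 : P) ∈ Submonoid.powers c ⊔ Algebra.algebraMapSubmonoid P η.asIdeal.primeCompl
  · obtain ⟨_, ⟨k, rfl⟩, _, ⟨s, hs, rfl⟩, hmul⟩ := Submonoid.mem_sup.mp h0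
    refine ⟨s, hs, fun q hq => ?_⟩
    have hz : c ^ k * algebraMap A P s ∈ q.asIdeal := by
      have : c ^ k * algebraMap A P s = 0 := hmul
      rw [this]; exact zero_mem _
    exact q.isPrime.mem_of_pow_mem k ((q.isPrime.mem_or_mem hz).resolve_right hq)
  · exfalso
    obtain ⟨q, hq, -, hdis⟩ := Ideal.exists_le_prime_disjoint (⊥ : Ideal P)
      (Submonoid.powers c ⊔ Algebra.algebraMapSubmonoid P η.asIdeal.primeCompl)
      (Set.disjoint_left.mpr fun x hx hx' => h0 (by
        have : x = 0 := hx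
        rwa [this] at hx'))
    have hle : q.comap (algebraMap A P) ≤ η.asIdeal := by
      intro a ha
      by_contra h
      exact (Set.disjoint_left.mp hdis) (show algebraMap A P a ∈ q from ha) (Submonoid.mem_sup_right ⟨a, h, rfl⟩)
    have heq : q.comap (algebraMap A P) = η.asIdeal :=
      le_antisymm hle (hη.2 ⟨inferInstance, bot_le⟩ hle)
    exact (Set.disjoint_left.mp hdis) (show c ∈ q from hc ⟨q, hq⟩ (PrimeSpectrum.ext heq))
      (Submonoid.mem_sup_left (Submonoid.mem_powers c))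

/-- A closed nowhere dense subset of a finite free cover has nowhere dense image. -/
lemma isNowhereDense_image_free [Module.Finite A P] [Module.Free A P] {T : Set (PrimeSpectrum P)}
    (hT : IsClosed T) (hT' : IsNowhereDense T) :
    IsNowhereDense (PrimeSpectrum.comap (algebraMap A P) '' T) := by
  classical
  set π := PrimeSpectrum.comap (algebraMap A P) with hπ
  have hclosed : IsClosed (π '' T) :=
    PrimeSpectrum.isClosedMap_comap_of_isIntegral (algebraMap A P)
      (algebraMap_isIntegral_iff.mpr inferInstance) T hT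
  rw [IsNowhereDense, hclosed.closure_eq, Set.eq_empty_iff_forall_notMem]
  intro x₀ hx₀
  obtain ⟨_, ⟨a, rfl⟩, hx₀a, haT⟩ := PrimeSpectrum.isTopologicalBasis_basic_opens.exists_subset_of_mem_open
    hx₀ isOpen_interior
  haveI : Nontrivial A := x₀.nontrivial
  have hWd : interior T = ∅ := by rw [← hT.closure_eq]; exact hT'
  let Mn : Set (PrimeSpectrum A) := {η | η.asIdeal ∈ minimalPrimes A ∧ a ∉ η.asIdeal}
  let Fw : PrimeSpectrum A → Set (PrimeSpectrum P) := fun η => π ⁻¹' {η} \ T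
  have hMn : Mn.Nonempty := by
    obtain ⟨p, hp, hple⟩ := Ideal.exists_minimalPrimes_le (J := x₀.asIdeal) (bot_le : (⊥ : Ideal A) ≤ _)
    exact ⟨⟨p, hp.1.1⟩, hp, fun h => hx₀a (hple h)⟩
  have hfin : ∀ η, (π ⁻¹' {η}).Finite := fun η => (ncard_fibre_le η).1
  have hbdd : BddAbove ((fun η => (Fw η).ncard) '' Mn) := ⟨Module.finrank A P, by
    rintro _ ⟨η, -, rfl⟩
    exact (Set.ncard_le_ncard Set.sdiff_subset (hfin η)).trans (ncard_fibre_le η).2⟩
  obtain ⟨η₀, hη₀, hmax⟩ := Nat.sSup_mem (hMn.image _) hbdd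
  have hle : ∀ η ∈ Mn, (Fw η).ncard ≤ (Fw η₀).ncard := fun η hη =>
    hmax.ge.trans' (le_csSup hbdd ⟨η, hη, rfl⟩)
  obtain ⟨t, htT, htη⟩ := interior_subset (haT hη₀.2)
  -- separating elements
  have hsep : ∀ z : PrimeSpectrum P, π z = η₀ → ∀ c' ∉ z.asIdeal, ∃ c ∉ z.asIdeal,
      (∀ q, π q = η₀ → q ≠ z → c ∈ q.asIdeal) ∧ ∀ q : PrimeSpectrum P, c ∉ q.asIdeal → c' ∉ q.asIdeal := by
    intro z hz c' hc'
    have hnle : ∀ q : PrimeSpectrum P, π q = η₀ → q ≠ z → ¬ q.asIdeal ≤ z.asIdeal := by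
      intro q hq hne h
      refine hne (PrimeSpectrum.ext (Algebra.WeaklyQuasiFiniteAt.eq_of_le_of_under_eq (R := A) h ?_))
      exact congrArg PrimeSpectrum.asIdeal (hq.trans hz.symm)
    choose e he he' using fun q : {q // π q = η₀ ∧ q ≠ z} =>
      SetLike.not_le_iff_exists.mp (hnle q.1 q.2.1 q.2.2)
    haveI : Finite {q // π q = η₀ ∧ q ≠ z} := ((hfin η₀).subset fun q hq => hq.1).to_subtype
    letI := Fintype.ofFinite {q // π q = η₀ ∧ q ≠ z}
    refine ⟨c' * ∏ q, e q, fun h => ?_, fun q hq hne => ?_, fun q hq h => hq ?_⟩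
    · rcases z.isPrime.mem_or_mem h with h | h
      · exact hc' h
      · obtain ⟨i, -, hi⟩ := z.isPrime.prod_mem_iff.mp h
        exact he' i hi
    · exact Ideal.mul_mem_left _ _ (Ideal.prod_mem _ (Finset.mem_univ ⟨q, hq, hne⟩) (he ⟨q, hq, hne⟩))
    · exact Ideal.mul_mem_right _ _ h
  have hW : ∀ w : Fw η₀, ∃ c ∉ w.1.asIdeal,
      (∀ q, π q = η₀ → q ≠ w.1 → c ∈ q.asIdeal) ∧ ∀ q : PrimeSpectrum P, c ∉ q.asIdeal → q ∉ T := by
    intro w
    obtain ⟨_, ⟨b, rfl⟩, hwb, hbT⟩ := PrimeSpectrum.isTopologicalBasis_basic_opens.exists_subset_of_mem_open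
      (show w.1 ∈ Tᶜ from w.2.2) hT.isOpen_compl
    obtain ⟨c, hc, h1, h2⟩ := hsep w.1 w.2.1 b hwb
    exact ⟨c, hc, h1, fun q hq => hbT (h2 q hq)⟩
  choose c hc hc1 hcT using hW
  obtain ⟨ct, hct, hct1, -⟩ := hsep t htη 1 ((Ideal.ne_top_iff_one _).mp t.isPrime.ne_top)
  haveI : Finite (Fw η₀) := ((hfin η₀).subset Set.sdiff_subset).to_subtype
  haveI : Module.FinitePresentation A P := Module.finitePresentation_of_projective A P
  haveI : Algebra.FinitePresentation A P := Algebra.FinitePresentation.of_finitePresentation A P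
  have hopen : IsOpenMap π := PrimeSpectrum.isOpenMap_comap_of_hasGoingDown_of_finitePresentation
  -- neighbourhoods
  have hv1 : ∀ w w' : Fw η₀, w ≠ w' → ∃ s ∉ η₀.asIdeal, ∀ q : PrimeSpectrum P,
      algebraMap A P s ∉ q.asIdeal → c w * c w' ∈ q.asIdeal := fun w w' hne =>
    exists_nhd_avoid hη₀.1 fun q hq => by
      by_cases h : q = w.1
      · exact Ideal.mul_mem_left _ _ (hc1 w' q hq fun h' => hne (Subtype.ext (h.symm.trans h')))
      · exact Ideal.mul_mem_right _ _ (hc1 w q hq h)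
  have hv2 : ∀ w : Fw η₀, ∃ s ∉ η₀.asIdeal, ∀ q : PrimeSpectrum P,
      algebraMap A P s ∉ q.asIdeal → c w * ct ∈ q.asIdeal := fun w =>
    exists_nhd_avoid hη₀.1 fun q hq => by
      by_cases h : q = w.1
      · refine Ideal.mul_mem_left _ _ (hct1 q hq fun h' => w.2.2 ?_)
        rw [← h, h']; exact htT
      · exact Ideal.mul_mem_right _ _ (hc1 w q hq h)
  choose s₁ hs₁ hs₁' using hv1
  choose s₂ hs₂ hs₂' using hv2
  let N : Set (PrimeSpectrum A) := (PrimeSpectrum.basicOpen a : Set _) ∩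
    (⋂ w : Fw η₀, π '' (PrimeSpectrum.basicOpen (c w) : Set (PrimeSpectrum P))) ∩
    (⋂ w : Fw η₀, ⋂ w' : Fw η₀, ⋂ h : w ≠ w', (PrimeSpectrum.basicOpen (s₁ w w' h) : Set _)) ∩
    (⋂ w : Fw η₀, (PrimeSpectrum.basicOpen (s₂ w) : Set _))
  have hNo : IsOpen N := (((PrimeSpectrum.isOpen_basicOpen).inter
      (isOpen_iInter_of_finite fun w => hopen _ PrimeSpectrum.isOpen_basicOpen)).inter
      (isOpen_iInter_of_finite fun w => isOpen_iInter_of_finite fun w' =>
        isOpen_iInter_of_finite fun h => PrimeSpectrum.isOpen_basicOpen)).inter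
      (isOpen_iInter_of_finite fun w => PrimeSpectrum.isOpen_basicOpen)
  have hηN : η₀ ∈ N := by
    refine ⟨⟨⟨hη₀.2, Set.mem_iInter.mpr fun w => ⟨w.1, hc w, w.2.1⟩⟩, ?_⟩, Set.mem_iInter.mpr hs₂⟩
    simp only [Set.mem_iInter]
    exact hs₁
  -- a minimal prime outside `T` near `t`
  let O : Set (PrimeSpectrum P) := (PrimeSpectrum.basicOpen ct : Set _) ∩ π ⁻¹' N
  have hOo : IsOpen O := PrimeSpectrum.isOpen_basicOpen.inter (hNo.preimage (PrimeSpectrum.continuous_comap _))
  have htO : t ∈ O := ⟨hct, show π t ∈ N by rw [htη]; exact hηN⟩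
  obtain ⟨y, hyO, hyT⟩ : ∃ y ∈ O, y ∉ T := by
    by_contra h
    push Not at h
    have : t ∈ interior T := mem_interior.mpr ⟨O, h, hOo, htO⟩
    simp [hWd] at this
  obtain ⟨p, hp, hpy⟩ := Ideal.exists_minimalPrimes_le (J := y.asIdeal) (bot_le : (⊥ : Ideal P) ≤ _)
  let z : PrimeSpectrum P := ⟨p, hp.1.1⟩
  have hzy : z ⤳ y := (PrimeSpectrum.le_iff_specializes z y).mp hpy
  have hzO : z ∈ O := hzy.mem_open hOo hyO
  have hzT : z ∉ T := fun h => hyT (hzy.mem_closed hT h)
  have hzmin : (π z).asIdeal ∈ minimalPrimes A := by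
    refine ⟨⟨inferInstance, bot_le⟩, fun q hq hle' => ?_⟩
    haveI := hq.1
    haveI : z.asIdeal.LiesOver (π z).asIdeal := ⟨rfl⟩
    haveI : z.asIdeal.IsPrime := z.2
    haveI : q.IsPrime := hq.1
    obtain ⟨Q, hQle, hQ, hQo⟩ := Ideal.exists_ideal_le_liesOver_of_le z.asIdeal (p := q) (q := (π z).asIdeal) hle'
    have hQz : z.asIdeal ≤ Q := hp.2 ⟨hQ, bot_le⟩ hQle
    rw [hQo.over]
    exact Ideal.comap_mono hQz
  have hzMn : π z ∈ Mn := ⟨hzmin, hzO.2.1.1.1⟩
  have hex : ∀ w : Fw η₀, ∃ q, c w ∉ q.asIdeal ∧ π q = π z := fun w =>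
    Set.mem_iInter.mp hzO.2.1.1.2 w
  choose g hg hgz using hex
  let g' : Fw η₀ → Fw (π z) := fun w => ⟨g w, hgz w, hcT w _ (hg w)⟩
  have hinj : Function.Injective g' := by
    intro w w' h
    by_contra hne
    have hmem := hs₁' w w' hne (g w) (by
      have := Set.mem_iInter.mp (Set.mem_iInter.mp (Set.mem_iInter.mp hzO.2.1.2 w) w') hne
      exact fun h' => this (by rw [← hgz w]; exact h'))
    rcases (g w).isPrime.mem_or_mem hmem with h' | h'
    · exact hg w h'
    · have hgg : g w = g w' := congrArg Subtype.val h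
      exact hg w' (hgg ▸ h')
  haveI : Finite (Fw (π z)) := ((hfin (π z)).subset Set.sdiff_subset).to_subtype
  have hsurj : Function.Surjective g' := by
    refine ((Nat.bijective_iff_injective_and_card g').mpr ⟨hinj, le_antisymm ?_ ?_⟩).2
    · exact Nat.card_le_card_of_injective g' hinj
    · simpa [Nat.card_coe_set_eq] using hle _ hzMn
  obtain ⟨w, hw⟩ := hsurj ⟨z, rfl, hzT⟩
  have hgwz : g w = z := congrArg Subtype.val hw
  have hmem := hs₂' w z (fun h' => Set.mem_iInter.mp hzO.2.2 w h')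
  rcases z.isPrime.mem_or_mem hmem with h' | h'
  · exact hg w (hgwz ▸ h')
  · exact hzO.1 h'

end Groth.Agent.NwdImage

namespace Groth.Agent.NwdImage

open AlgebraicGeometry CategoryTheory

lemma isNowhereDense_preimage {Y Z : Type*} [TopologicalSpace Y] [TopologicalSpace Z] {e : Y → Z}
    (he : IsOpenMap e) (hc : Continuous e) {T : Set Z} (hT : IsNowhereDense T) :
    IsNowhereDense (e ⁻¹' T) := by
  rw [IsNowhereDense, ← he.preimage_closure_eq_closure_preimage hc,
    ← he.preimage_interior_eq_interior_preimage hc]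
  rw [IsNowhereDense] at hT
  rw [hT, Set.preimage_empty]

lemma exists_nhd_isNowhereDense_image {Y X : Scheme.{u}} (f : Y ⟶ X) [LocallyQuasiFinite f]
    [LocallyOfFiniteType f] {T : Set Y} (hT' : IsNowhereDense T) (y : Y) :
    ∃ O : Y.Opens, y ∈ O ∧ IsNowhereDense (f '' (T ∩ O)) := by
  obtain ⟨U, hU, hxU, -⟩ := exists_isAffineOpen_mem_and_subset (U := (⊤ : X.Opens)) (x := f y) trivial
  obtain ⟨V, hV, hxV, hVU⟩ := exists_isAffineOpen_mem_and_subset (show y ∈ f ⁻¹ᵁ U from hxU)
  letI := (f.appLE U V hVU).hom.toAlgebra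
  haveI : Algebra.FiniteType Γ(X, U) Γ(Y, V) := f.finiteType_appLE hU hV hVU
  let q := (hV.primeIdealOf ⟨y, hxV⟩).asIdeal
  haveI : Algebra.QuasiFiniteAt Γ(X, U) q := (f.quasiFiniteAt y).quasiFiniteAt hV hU hVU hxV
  obtain ⟨S, hS, r, hr, hbij⟩ :=
    Algebra.QuasiFiniteAt.exists_fg_and_exists_notMem_and_awayMap_bijective (R := Γ(X, U)) q
  haveI : Module.Finite Γ(X, U) S := ⟨(Submodule.fg_top _).mpr hS⟩
  obtain ⟨P, _, _, _, _, φ, hφ⟩ := exists_finite_free_surj Γ(X, U) S
  let o : Spec (CommRingCat.of (Localization.Away r.1)) ⟶ Y :=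
    Spec.map (CommRingCat.ofHom (algebraMap Γ(Y, V) (Localization.Away r.1))) ≫ hV.fromSpec
  haveI : IsOpenImmersion (Spec.map (CommRingCat.ofHom (algebraMap Γ(Y, V) (Localization.Away r.1)))) :=
    IsOpenImmersion.of_isLocalization r.1
  haveI : IsOpenImmersion o := inferInstance
  let eS := CommRingCat.ofHom (Localization.awayMap S.val.toRingHom r)
  haveI : IsIso eS := (ConcreteCategory.isIso_iff_bijective _).mpr hbij
  haveI : IsOpenImmersion (Spec.map (CommRingCat.ofHom (algebraMap S (Localization.Away r)))) :=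
    IsOpenImmersion.of_isLocalization r
  haveI : IsOpenImmersion (Spec.map eS) := inferInstance
  let e := Spec.map eS ≫ Spec.map (CommRingCat.ofHom (algebraMap S (Localization.Away r)))
  haveI : IsOpenImmersion e := inferInstance
  have hfac : o ≫ f = e ≫ Spec.map (CommRingCat.ofHom φ.toRingHom) ≫
      Spec.map (CommRingCat.ofHom (algebraMap Γ(X, U) P)) ≫ hU.fromSpec := by
    change (_ ≫ hV.fromSpec) ≫ f = _
    rw [Category.assoc, ← IsAffineOpen.SpecMap_appLE_fromSpec f hU hV hVU, Category.assoc,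
      ← Spec.map_comp_assoc, ← Spec.map_comp_assoc, ← Spec.map_comp_assoc, ← Spec.map_comp_assoc]
    refine congrArg (fun g => Spec.map g ≫ hU.fromSpec) ?_
    have hc : CommRingCat.ofHom (algebraMap Γ(X, U) P) ≫ CommRingCat.ofHom φ.toRingHom =
        CommRingCat.ofHom (algebraMap Γ(X, U) S) := CommRingCat.hom_ext (RingHom.ext φ.commutes)
    rw [reassoc_of% hc]
    exact (Groth.Agent.FibBound.awayMap_comp S r).symm
  have hind : Topology.IsInducing (fun x => Spec.map (CommRingCat.ofHom φ.toRingHom) (e x)) :=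
    ((PrimeSpectrum.isClosedEmbedding_comap_of_surjective _ φ.toRingHom hφ).isInducing).comp
      e.isOpenEmbedding.isInducing
  have h1 : IsNowhereDense ((fun x => Spec.map (CommRingCat.ofHom φ.toRingHom) (e x)) '' (o ⁻¹' T)) :=
    isNowhereDense_image_of_isInducing hind
      (isNowhereDense_preimage o.isOpenEmbedding.isOpenMap o.continuous hT')
  have h2 : IsNowhereDense (Spec.map (CommRingCat.ofHom (algebraMap Γ(X, U) P)) ''
      closure ((fun x => Spec.map (CommRingCat.ofHom φ.toRingHom) (e x)) '' (o ⁻¹' T))) :=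
    isNowhereDense_image_free isClosed_closure h1.closure
  have h3 := isNowhereDense_image_of_isInducing hU.fromSpec.isOpenEmbedding.isInducing h2
  refine ⟨o.opensRange, ?_, h3.mono ?_⟩
  · have hdis := (Ideal.disjoint_powers_iff_notMem r.1 (hV.primeIdealOf ⟨y, hxV⟩).isPrime.isRadical).mpr hr
    have hpr : (q.map (algebraMap Γ(Y, V) (Localization.Away r.1))).IsPrime :=
      IsLocalization.isPrime_of_isPrime_disjoint (Submonoid.powers r.1) _ q inferInstance hdis
    refine ⟨(⟨_, hpr⟩ : PrimeSpectrum _), ?_⟩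
    rw [Scheme.Hom.comp_apply]
    have : Spec.map (CommRingCat.ofHom (algebraMap Γ(Y, V) (Localization.Away r.1)))
        ⟨_, hpr⟩ = hV.primeIdealOf ⟨y, hxV⟩ :=
      PrimeSpectrum.ext (IsLocalization.comap_map_of_isPrime_disjoint (Submonoid.powers r.1) _ inferInstance hdis)
    rw [this]
    exact hV.fromSpec_primeIdealOf _
  · rintro _ ⟨_, ⟨hzT, ⟨z, rfl⟩⟩, rfl⟩
    refine ⟨_, ⟨_, subset_closure ⟨z, hzT, rfl⟩, rfl⟩, ?_⟩
    simp only [← Scheme.Hom.comp_apply, hfac]
    rfl

end Groth.Agent.NwdImage
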