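import Groth.Agent.NwdImage.Basic
import Groth.Agent.S0439

/-!
# A quasi-finite morphism is finite over a dense open
-/

set_option linter.style.haveILetI false

universe u

open CategoryTheory AlgebraicGeometry Limits TopologicalSpace

namespace Groth.Agent.NwdImage

lemma isFinite_sup_of_disjoint {Y N : Scheme.{u}} (h : Y ⟶ N) (A B : Y.Opens)
    (hd : Disjoint A B) [IsFinite (A.ι ≫ h)] [IsFinite (B.ι ≫ h)] : IsFinite ((A ⊔ B).ι ≫ h) := by
  let a := Y.homOfLE (le_sup_left : A ≤ A ⊔ B)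
  let b := Y.homOfLE (le_sup_right : B ≤ A ⊔ B)
  have hc : IsCompl a.opensRange b.opensRange := by
    rw [Scheme.opensRange_homOfLE, Scheme.opensRange_homOfLE]
    refine IsCompl.of_eq (Opens.ext ?_) (Opens.ext ?_)
    · ext ⟨z, hz⟩
      simp only [Opens.coe_inf, Opens.coe_bot, Set.mem_inter_iff, Set.mem_empty_iff_false, iff_false,
        not_and]
      intro h1 h2
      have h0 := disjoint_iff.mp hd
      have : z ∈ A ⊓ B := ⟨h1, h2⟩
      rw [h0] at this
      exact this
    · ext ⟨z, hz⟩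
      simp only [Opens.coe_sup, Opens.coe_top, Set.mem_union, Set.mem_univ, iff_true]
      exact hz
  obtain ⟨hcol⟩ := nonempty_isColimit_binaryCofanMk_of_isCompl a b hc
  let e : (A : Scheme.{u}) ⨿ (B : Scheme.{u}) ≅ ((A ⊔ B : Y.Opens) : Scheme.{u}) :=
    (coprodIsCoprod _ _).coconePointUniqueUpToIso hcol
  have he : e.hom ≫ (A ⊔ B).ι ≫ h = coprod.desc (A.ι ≫ h) (B.ι ≫ h) := by
    apply coprod.hom_ext
    · have h1 : coprod.inl ≫ e.hom = a :=
        (coprodIsCoprod _ _).comp_coconePointUniqueUpToIso_hom hcol ⟨WalkingPair.left⟩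
      rw [reassoc_of% h1, coprod.inl_desc]
      simp [a]
    · have h1 : coprod.inr ≫ e.hom = b :=
        (coprodIsCoprod _ _).comp_coconePointUniqueUpToIso_hom hcol ⟨WalkingPair.right⟩
      rw [reassoc_of% h1, coprod.inr_desc]
      simp [b]
  refine (MorphismProperty.cancel_left_of_respectsIso @IsFinite e.hom _).mp ?_
  rw [he]
  infer_instance

lemma isFinite_of_clopen_cover {Y N : Scheme.{u}} (h : Y ⟶ N) {ι : Type*} (s : Finset ι)
    (W : ι → Y.Opens) (hcl : ∀ i ∈ s, IsClosed (W i : Set Y)) (hfin : ∀ i ∈ s, IsFinite ((W i).ι ≫ h))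
    (hne : s.Nonempty) :
    IsClosed ((s.sup W : Y.Opens) : Set Y) ∧ IsFinite ((s.sup W).ι ≫ h) := by
  classical
  induction hne using Finset.Nonempty.cons_induction with
  | singleton a => rw [Finset.sup_singleton]; exact ⟨hcl a (by simp), hfin a (by simp)⟩
  | cons a s ha hs ih =>
    obtain ⟨hc, hf⟩ := ih (fun i hi => hcl i (Finset.mem_cons_of_mem hi))
      (fun i hi => hfin i (Finset.mem_cons_of_mem hi))
    haveI := hf
    rw [Finset.sup_cons]
    have hca := hcl a (Finset.mem_cons_self a s)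
    haveI := hfin a (Finset.mem_cons_self a s)
    refine ⟨by rw [Opens.coe_sup]; exact hca.union hc, ?_⟩
    let B : Y.Opens := ⟨((s.sup W : Y.Opens) : Set Y) \ W a, (s.sup W).2.sdiff hca⟩
    have hB : B ≤ s.sup W := fun z hz => hz.1
    haveI : IsClosedImmersion (Y.homOfLE hB) := by
      refine IsClosedImmersion.of_isPreimmersion _ ?_
      rw [← Scheme.Hom.coe_opensRange, Scheme.opensRange_homOfLE]
      exact (hc.sdiff (W a).2).preimage continuous_subtype_val
    haveI : IsFinite (B.ι ≫ h) := by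
      rw [← Scheme.homOfLE_ι Y hB, Category.assoc]
      infer_instance
    have : W a ⊔ s.sup W = W a ⊔ B := by
      apply Opens.ext
      simp [B, Opens.coe_sup, Set.union_sdiff_self]
    rw [this]
    refine isFinite_sup_of_disjoint h _ _ (disjoint_iff.mpr (Opens.ext ?_))
    ext z
    simp [B]

lemma isNowhereDense_closure_sdiff {X : Type*} [TopologicalSpace X] {W : Set X} (hW : IsOpen W) :
    IsNowhereDense (closure W \ W) := by
  rw [← hW.frontier_eq, IsNowhereDense, isClosed_frontier.closure_eq, ← frontier_compl]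
  exact interior_frontier hW.isClosed_compl

/-- Local structure: near each point a quasi-finite morphism to an affine scheme embeds into a finite one. -/
lemma exists_nhd_finite_factor {Y X : Scheme.{u}} (g : Y ⟶ X) [IsAffine X] [LocallyQuasiFinite g]
    [LocallyOfFiniteType g] (y : Y) :
    ∃ (O : Y.Opens) (Z : Scheme.{u}) (j : (O : Scheme.{u}) ⟶ Z) (π : Z ⟶ X),
      y ∈ O ∧ IsOpenImmersion j ∧ IsFinite π ∧ j ≫ π = O.ι ≫ g := by
  obtain ⟨U, hU, hUtop⟩ : ∃ U : X.Opens, IsAffineOpen U ∧ U = ⊤ := ⟨⊤, isAffineOpen_top X, rfl⟩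
  obtain ⟨V, hV, hxV, hVU⟩ := exists_isAffineOpen_mem_and_subset
    (show y ∈ g ⁻¹ᵁ U by rw [hUtop]; trivial)
  letI := (g.appLE U V hVU).hom.toAlgebra
  haveI : Algebra.FiniteType Γ(X, U) Γ(Y, V) := g.finiteType_appLE hU hV hVU
  let q := (hV.primeIdealOf ⟨y, hxV⟩).asIdeal
  haveI : Algebra.QuasiFiniteAt Γ(X, U) q := (g.quasiFiniteAt y).quasiFiniteAt hV hU hVU hxV
  obtain ⟨S, hS, r, hr, hbij⟩ :=
    Algebra.QuasiFiniteAt.exists_fg_and_exists_notMem_and_awayMap_bijective (R := Γ(X, U)) q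
  haveI : Module.Finite Γ(X, U) S := ⟨(Submodule.fg_top _).mpr hS⟩
  let o : Spec (CommRingCat.of (Localization.Away r.1)) ⟶ Y :=
    Spec.map (CommRingCat.ofHom (algebraMap Γ(Y, V) (Localization.Away r.1))) ≫ hV.fromSpec
  haveI : IsOpenImmersion (Spec.map (CommRingCat.ofHom (algebraMap Γ(Y, V) (Localization.Away r.1)))) :=
    IsOpenImmersion.of_isLocalization r.1
  haveI : IsOpenImmersion o := inferInstance
  let eS := CommRingCat.ofHom (Localization.awayMap S.val.toRingHom r)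
  haveI : IsIso eS := (ConcreteCategory.isIso_iff_bijective _).mpr hbij
  haveI : IsOpenImmersion (Spec.map (CommRingCat.ofHom (algebraMap S (Localization.Away r)))) :=
    IsOpenImmersion.of_isLocalization r
  haveI : IsOpenImmersion (Spec.map eS) := inferInstance
  let e : Spec (CommRingCat.of (Localization.Away r.1)) ⟶ Spec (CommRingCat.of S) :=
    Spec.map eS ≫ Spec.map (CommRingCat.ofHom (algebraMap S (Localization.Away r)))
  haveI : IsOpenImmersion e := MorphismProperty.comp_mem @IsOpenImmersion _ _ ‹_› ‹_›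
  have hfac : o ≫ g = e ≫ Spec.map (CommRingCat.ofHom (algebraMap Γ(X, U) S)) ≫ hU.fromSpec := by
    change (_ ≫ hV.fromSpec) ≫ g = _
    rw [Category.assoc, ← IsAffineOpen.SpecMap_appLE_fromSpec g hU hV hVU, Category.assoc,
      ← Spec.map_comp_assoc, ← Spec.map_comp_assoc, ← Spec.map_comp_assoc]
    exact congrArg (fun g => Spec.map g ≫ hU.fromSpec) (Groth.Agent.FibBound.awayMap_comp S r).symm
  haveI : IsFinite (Spec.map (CommRingCat.ofHom (algebraMap Γ(X, U) S))) :=
    (HasAffineProperty.iff_of_isAffine (P := @IsFinite)).mpr ⟨inferInstance, RingHom.finite_respectsIso.arrow_mk_iso_iff (arrowIsoΓSpecOfIsAffine _) |>.mp (RingHom.finite_algebraMap.mpr inferInstance)⟩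
  haveI : IsIso hU.fromSpec := by
    refine isIso_of_isOpenImmersion_of_opensRange_eq_top _ (Opens.ext ?_)
    rw [Scheme.Hom.coe_opensRange, hU.range_fromSpec, hUtop]
  refine ⟨o.opensRange, _, o.isoOpensRange.inv ≫ e,
    Spec.map (CommRingCat.ofHom (algebraMap Γ(X, U) S)) ≫ hU.fromSpec, ?_, inferInstance, inferInstance, ?_⟩
  · have hdis := (Ideal.disjoint_powers_iff_notMem r.1 (hV.primeIdealOf ⟨y, hxV⟩).isPrime.isRadical).mpr hr
    have hpr : (q.map (algebraMap Γ(Y, V) (Localization.Away r.1))).IsPrime :=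
      IsLocalization.isPrime_of_isPrime_disjoint (Submonoid.powers r.1) _ q inferInstance hdis
    refine ⟨(⟨_, hpr⟩ : PrimeSpectrum _), ?_⟩
    rw [Scheme.Hom.comp_apply]
    have : Spec.map (CommRingCat.ofHom (algebraMap Γ(Y, V) (Localization.Away r.1)))
        ⟨_, hpr⟩ = hV.primeIdealOf ⟨y, hxV⟩ :=
      PrimeSpectrum.ext (IsLocalization.comap_map_of_isPrime_disjoint (Submonoid.powers r.1) _ inferInstance hdis)
    rw [this]
    exact hV.fromSpec_primeIdealOf _
  · rw [Category.assoc, ← hfac, Scheme.Hom.isoOpensRange_inv_comp_assoc]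

lemma exists_nonempty_isFinite {Y X : Scheme.{u}} (g : Y ⟶ X) [IsAffine X] [Nonempty X]
    [LocallyQuasiFinite g] [LocallyOfFiniteType g] [QuasiCompact g] :
    ∃ N : X.Opens, (N : Set X).Nonempty ∧ IsFinite (g ∣_ N) := by
  classical
  haveI : CompactSpace Y := QuasiCompact.compactSpace_of_compactSpace g
  choose O Z j π hyO hj hπ hjπ using exists_nhd_finite_factor g
  obtain ⟨s, hs⟩ := isCompact_univ.elim_finite_subcover (fun y => (O y : Set Y)) (fun y => (O y).2)
    (fun z _ => Set.mem_iUnion.mpr ⟨z, hyO z⟩)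
  let bad : Y → Set X := fun y => g '' (closure (O y : Set Y) \ O y) ∪
    π y '' (closure (Set.range (j y)) \ Set.range (j y))
  have hbad : IsNowhereDense (⋃ y ∈ s, bad y) := isNowhereDense_biUnion s fun y _ => by
    haveI := hj y
    haveI := hπ y
    refine isNowhereDense_union ?_ ?_
    · exact Groth.Agent.S0439.result g _ (isClosed_closure.sdiff (O y).2)
        (isNowhereDense_closure_sdiff (O y).2)
    · exact Groth.Agent.S0439.result (π y) _ (isClosed_closure.sdiff (j y).isOpenEmbedding.isOpen_range)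
        (isNowhereDense_closure_sdiff (j y).isOpenEmbedding.isOpen_range)
  let N : X.Opens := ⟨(closure (⋃ y ∈ s, bad y))ᶜ, isClosed_closure.isOpen_compl⟩
  have hN : (N : Set X).Nonempty := by
    rw [IsNowhereDense, interior_eq_empty_iff_dense_compl] at hbad
    exact hbad.nonempty
  have hNb : ∀ y ∈ s, ∀ x ∈ bad y, x ∉ N := fun y hy x hx hxN =>
    hxN (subset_closure (Set.mem_biUnion hy hx))
  let Y' : Y.Opens := g ⁻¹ᵁ N
  let W : Y → (Y' : Scheme.{u}).Opens := fun y => Y'.ι ⁻¹ᵁ O y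
  have hWcl : ∀ y ∈ s, IsClosed (W y : Set (Y' : Scheme.{u})) := by
    intro y hy
    have : (W y : Set (Y' : Scheme.{u})) = Y'.ι ⁻¹' closure (O y : Set Y) := by
      ext z
      refine ⟨fun hz => subset_closure hz, fun hz => ?_⟩
      by_contra h
      exact hNb y hy (g (Y'.ι z)) (Or.inl ⟨_, ⟨hz, h⟩, rfl⟩) z.2
    rw [this]
    exact isClosed_closure.preimage Y'.ι.continuous
  have hWfin : ∀ y ∈ s, IsFinite ((W y).ι ≫ g ∣_ N) := by
    intro y hy
    haveI := hj y
    haveI := hπ y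
    haveI : IsClosedImmersion (j y ∣_ (π y ⁻¹ᵁ N)) := by
      refine IsClosedImmersion.of_isPreimmersion _ ?_
      have : Set.range (j y ∣_ (π y ⁻¹ᵁ N)) =
          (π y ⁻¹ᵁ N).ι ⁻¹' closure (Set.range (j y)) := by
        ext z
        constructor
        · rintro ⟨w, rfl⟩
          refine subset_closure ⟨(j y ⁻¹ᵁ π y ⁻¹ᵁ N).ι w, ?_⟩
          rw [← Scheme.Hom.comp_apply, ← Scheme.Hom.comp_apply, morphismRestrict_ι]
        · intro hz
          obtain ⟨w, hw⟩ : (π y ⁻¹ᵁ N).ι z ∈ Set.range (j y) := by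
            by_contra h
            exact hNb y hy (π y ((π y ⁻¹ᵁ N).ι z)) (Or.inr ⟨_, ⟨hz, h⟩, rfl⟩) z.2
          refine ⟨⟨w, ?_⟩, ?_⟩
          · show j y w ∈ π y ⁻¹ᵁ N
            rw [hw]; exact z.2
          · apply (π y ⁻¹ᵁ N).ι.isOpenEmbedding.injective
            rw [← Scheme.Hom.comp_apply, morphismRestrict_ι, Scheme.Hom.comp_apply]
            exact hw
      rw [this]
      exact isClosed_closure.preimage (π y ⁻¹ᵁ N).ι.continuous
    haveI : IsFinite (π y ∣_ N) := IsZariskiLocalAtTarget.restrict ‹_› N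
    have h1 : IsFinite ((j y ≫ π y) ∣_ N) := by
      rw [morphismRestrict_comp]
      exact MorphismProperty.comp_mem @IsFinite _ _ (inferInstance : IsFinite (j y ∣_ (π y ⁻¹ᵁ N))) this
    rw [hjπ y, morphismRestrict_comp] at h1
    have h2 : (O y).ι ∣_ Y' = (O y).ι ∣_ Y' := rfl
    refine (MorphismProperty.cancel_left_of_respectsIso @IsFinite
      (IsOpenImmersion.isoOfRangeEq ((O y).ι ∣_ Y') (W y).ι ?_).hom _).mp ?_
    · rw [Scheme.Opens.range_ι]
      ext z
      constructor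
      · rintro ⟨w, rfl⟩
        show Y'.ι ((O y).ι ∣_ Y' |>.base w) ∈ O y
        rw [← Scheme.Hom.comp_apply, morphismRestrict_ι, Scheme.Hom.comp_apply]
        exact ((O y).ι ⁻¹ᵁ Y').ι w |>.2
      · intro hz
        refine ⟨⟨⟨Y'.ι z, hz⟩, ?_⟩, ?_⟩
        · show (O y).ι ⟨Y'.ι z, hz⟩ ∈ Y'
          exact z.2
        · apply Y'.ι.isOpenEmbedding.injective
          rw [← Scheme.Hom.comp_apply, morphismRestrict_ι, Scheme.Hom.comp_apply]
          rfl
    · rw [← Category.assoc, IsOpenImmersion.isoOfRangeEq_hom_fac]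
      exact h1
  refine ⟨N, hN, ?_⟩
  rcases s.eq_empty_or_nonempty with hse | hne
  · haveI : IsEmpty Y := ⟨fun z => by simpa [hse] using hs (Set.mem_univ z)⟩
    haveI : IsEmpty (Y' : Scheme.{u}) := ⟨fun z => IsEmpty.false (Y'.ι z)⟩
    infer_instance
  · obtain ⟨-, hf⟩ := isFinite_of_clopen_cover (g ∣_ N) s W hWcl hWfin hne
    have htop : s.sup W = ⊤ := by
      refine eq_top_iff.mpr fun z _ => ?_
      obtain ⟨y, hy, hz⟩ := Set.mem_iUnion₂.mp (hs (Set.mem_univ (Y'.ι z)))
      exact (Finset.le_sup (f := W) hy) hz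
    rw [htop] at hf
    exact (MorphismProperty.cancel_left_of_respectsIso @IsFinite (Scheme.topIso (Y' : Scheme.{u})).hom _).mp hf

theorem exists_dense_isFinite {Y X : Scheme.{u}} (f : Y ⟶ X)
    [LocallyQuasiFinite f] [LocallyOfFiniteType f] [QuasiCompact f] :
    ∃ U : X.Opens, Dense (U : Set X) ∧ IsFinite (f ∣_ U) := by
  let S : Type u := {U : X.Opens // IsFinite (f ∣_ U)}
  let Ω : X.Opens := ⨆ U : S, U.1
  refine ⟨Ω, ?_, ?_⟩
  · rw [dense_iff_inter_open]
    intro G hG hne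
    obtain ⟨x, hx⟩ := hne
    obtain ⟨U, hU, hxU, hUG⟩ := exists_isAffineOpen_mem_and_subset (U := (⟨G, hG⟩ : X.Opens)) (x := x) hx
    haveI : IsAffine (U : Scheme.{u}) := hU
    haveI : Nonempty (U : Scheme.{u}) := ⟨⟨x, hxU⟩⟩
    haveI : LocallyQuasiFinite (f ∣_ U) := IsZariskiLocalAtTarget.restrict ‹_› U
    haveI : LocallyOfFiniteType (f ∣_ U) := IsZariskiLocalAtTarget.restrict ‹_› U
    haveI : QuasiCompact (f ∣_ U) := IsZariskiLocalAtTarget.restrict ‹_› U
    obtain ⟨N, ⟨z, hz⟩, hN⟩ := exists_nonempty_isFinite (f ∣_ U)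
    have hN' : IsFinite (f ∣_ (U.ι ''ᵁ N)) :=
      (MorphismProperty.arrow_mk_iso_iff @IsFinite (morphismRestrictRestrict f U N)).mp hN
    exact ⟨U.ι z, hUG z.2, Opens.mem_iSup.mpr ⟨⟨_, hN'⟩, ⟨z, hz, rfl⟩⟩⟩
  · refine IsZariskiLocalAtTarget.of_iSup_eq_top (fun U : S => Ω.ι ⁻¹ᵁ U.1) ?_ fun U => ?_
    · refine eq_top_iff.mpr fun z _ => ?_
      obtain ⟨U, hU⟩ := Opens.mem_iSup.mp z.2
      exact Opens.mem_iSup.mpr ⟨U, hU⟩
    · refine (MorphismProperty.arrow_mk_iso_iff @IsFinite (morphismRestrictRestrict f Ω _)).mpr ?_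
      rw [Scheme.Hom.image_preimage_eq_opensRange_inf, Scheme.Opens.opensRange_ι,
        inf_eq_right.mpr (le_iSup (fun U : S => U.1) U)]
      exact U.2

end Groth.Agent.NwdImage
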